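import Mathlib

/-!
# Covering a normal subgroup by classes (helper934)

`cover_conj` : bounds of the centralizers in the big group `A` of pairwise non-conjugate elements of the normal subgroup
`N` with `∑ |A| / c ≥ |N|` : every element of `N` is conjugate to one of them under `A`.
-/

set_option autoImplicit false

namespace Cfsg.Agent.H934.Ore

/-- orbit-stabilizer for conjugation -/
theorem card_class {A : Type*} [Group A] [Finite A] (r : A) :
    Nat.card A = Nat.card ↥(Subgroup.centralizer {r}) * ({x | ∃ a : A, x = a * r * a⁻¹} : Set A).ncard := by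
  have e2 : Nat.card (A ⧸ Subgroup.centralizer {r}) = ({x | ∃ a : A, x = a * r * a⁻¹} : Set A).ncard := by
    rw [← Nat.card_coe_set_eq]
    refine Nat.card_congr (Equiv.ofBijective (fun q : A ⧸ Subgroup.centralizer {r} => Quotient.liftOn' q
      (fun a => (⟨a * r * a⁻¹, a, rfl⟩ : ({x | ∃ a : A, x = a * r * a⁻¹} : Set A))) ?_) ⟨?_, ?_⟩)
    · intro a b hab
      rw [QuotientGroup.leftRel_apply, Subgroup.mem_centralizer_singleton_iff] at hab
      apply Subtype.ext
      change a * r * a⁻¹ = b * r * b⁻¹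
      calc a * r * a⁻¹ = a * (r * (a⁻¹ * b)) * b⁻¹ := by group
        _ = a * (a⁻¹ * b * r) * b⁻¹ := by rw [hab]
        _ = b * r * b⁻¹ := by group
    · intro q q' h
      induction q using Quotient.inductionOn' with
      | h a =>
        induction q' using Quotient.inductionOn' with
        | h b =>
          have h2 : a * r * a⁻¹ = b * r * b⁻¹ := congrArg Subtype.val h
          refine Quotient.sound' ?_
          rw [QuotientGroup.leftRel_apply, Subgroup.mem_centralizer_singleton_iff]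
          calc (a⁻¹ * b) * r = a⁻¹ * (b * r * b⁻¹) * b := by group
            _ = a⁻¹ * (a * r * a⁻¹) * b := by rw [h2]
            _ = r * (a⁻¹ * b) := by group
    · rintro ⟨x, a, rfl⟩
      exact ⟨Quotient.mk'' a, rfl⟩
  rw [← e2, mul_comm]
  exact Subgroup.card_eq_card_quotient_mul_card_subgroup _

/-- **The classes cover the normal subgroup.** -/
theorem cover_conj {A : Type*} [Group A] [Finite A] (N : Subgroup A) (hnA : ∀ a x : A, x ∈ N → a * x * a⁻¹ ∈ N)
    {ι : Type*} [Fintype ι] (r : ι → A) (hr : ∀ i, r i ∈ N) (c : ι → ℕ)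
    (hc : ∀ i, Nat.card ↥(Subgroup.centralizer {r i}) ≤ c i)
    (hne : ∀ i j, i ≠ j → ∀ a, a * r i * a⁻¹ ≠ r j) (hsum : Nat.card N ≤ ∑ i, Nat.card A / c i) :
    ∀ g ∈ N, ∃ i, ∃ a, g = a * r i * a⁻¹ := by
  classical
  let cl : ι → Set A := fun i => {x | ∃ a : A, x = a * r i * a⁻¹}
  have hcl : ∀ i, Nat.card A / c i ≤ (cl i).ncard := by
    intro i
    have h1 : Nat.card A = Nat.card ↥(Subgroup.centralizer {r i}) * (cl i).ncard := card_class (r i)
    have h0 : 0 < Nat.card ↥(Subgroup.centralizer {r i}) := Nat.card_pos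
    calc Nat.card A / c i ≤ Nat.card A / Nat.card ↥(Subgroup.centralizer {r i}) := Nat.div_le_div_left (hc i) h0
      _ = (cl i).ncard := by
        rw [h1, Nat.mul_div_cancel_left _ h0]
  have hdis : Set.PairwiseDisjoint (Set.univ : Set ι) cl := by
    intro i _ j _ hij
    rw [Function.onFun, Set.disjoint_left]
    rintro x ⟨a, rfl⟩ ⟨b, h⟩
    refine hne i j hij (b⁻¹ * a) ?_
    calc b⁻¹ * a * r i * (b⁻¹ * a)⁻¹ = b⁻¹ * (a * r i * a⁻¹) * b := by group
      _ = r j := by rw [h]; group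
  have hun : (⋃ i, cl i) ⊆ (N : Set A) := by
    intro x hx
    obtain ⟨i, a, rfl⟩ := Set.mem_iUnion.1 hx
    exact hnA a _ (hr i)
  have hcard : (⋃ i, cl i).ncard = ∑ i, (cl i).ncard := by
    have h := Set.ncard_iUnion_of_finite (s := cl) (fun i => Set.toFinite _)
      (fun i j hij => hdis (Set.mem_univ i) (Set.mem_univ j) hij)
    rw [h, finsum_eq_sum_of_fintype]
  have heq : (⋃ i, cl i) = (N : Set A) := by
    refine Set.eq_of_subset_of_ncard_le hun ?_ (Set.toFinite _)
    have h1 : (N : Set A).ncard = Nat.card N := rfl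
    rw [h1, hcard]
    exact hsum.trans (Finset.sum_le_sum fun i _ => hcl i)
  intro g hg
  have h1 : g ∈ (⋃ i, cl i) := by rw [heq]; exact hg
  obtain ⟨i, a, h⟩ := Set.mem_iUnion.1 h1
  exact ⟨i, a, h⟩

/-- list version -/
theorem cover_list {A : Type*} [Group A] [Finite A] (N : Subgroup A) (hnA : ∀ a x : A, x ∈ N → a * x * a⁻¹ ∈ N)
    {D : Type*} (l : List D) (r : D → A) (hr : ∀ d ∈ l, r d ∈ N) (c : D → ℕ)
    (hc : ∀ d ∈ l, Nat.card ↥(Subgroup.centralizer {r d}) ≤ c d)
    (hne : l.Pairwise fun d d' => ∀ a, a * r d * a⁻¹ ≠ r d')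
    (hsum : Nat.card N ≤ (l.map fun d => Nat.card A / c d).sum) :
    ∀ g ∈ N, ∃ d ∈ l, ∃ a, g = a * r d * a⁻¹ := by
  have hmem : ∀ i : Fin l.length, l[i.1] ∈ l := fun i => List.getElem_mem i.2
  have h1 : ∀ i j : Fin l.length, i ≠ j → ∀ a, a * r (l[i.1]) * a⁻¹ ≠ r (l[j.1]) := by
    intro i j hij a h
    rcases lt_or_gt_of_ne hij with hlt | hlt
    · exact (List.pairwise_iff_getElem.1 hne i j i.2 j.2 hlt) a h
    · refine (List.pairwise_iff_getElem.1 hne j i j.2 i.2 hlt) a⁻¹ ?_
      rw [← h]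
      group
  have h2 : Nat.card N ≤ ∑ i : Fin l.length, Nat.card A / c (l[i.1]) := by
    rw [Fin.sum_univ_fun_getElem l (fun d => Nat.card A / c d)]
    exact hsum
  intro g hg
  obtain ⟨i, a, h⟩ := cover_conj N hnA (fun i : Fin l.length => r (l[i.1])) (fun i => hr _ (hmem i))
    (fun i => c (l[i.1])) (fun i => hc _ (hmem i)) h1 h2 g hg
  exact ⟨_, hmem i, a, h⟩

end Cfsg.Agent.H934.Ore
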