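import Cfsg.Agent.H633.Ore.Cov
import Cfsg.Agent.H934.Ore.GCover

/-!
# Class covers with the mask engine (helper934)

`runM` : mask programs (`self`, `fixd`, `cnt`, `and`, `andn` steps), the sizes of the masks are invariants of the class
(`sizes_conj`).  `word` : matrices of words.  `cover_mdl` : the cover theorem for a model `M` of a group `G` with a normal
subgroup `N`.
-/

set_option autoImplicit false

namespace Cfsg.Agent.H934.Ore

open Cfsg.Agent.H633.Ore

/-! ### the full mask -/

/-- the mask of all points -/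
def fullM (n : ℕ) : ℕ := (2 ^ (12 * n) - 1) / 4095

theorem fullM_succ (n : ℕ) : fullM (n + 1) = 2 ^ (12 * n) + fullM n := by
  have h1 : (2 : ℕ) ^ (12 * (n + 1)) - 1 = (2 ^ (12 * n) - 1) + 4095 * 2 ^ (12 * n) := by
    have h2 : (2 : ℕ) ^ (12 * (n + 1)) = 4096 * 2 ^ (12 * n) := by
      rw [Nat.mul_add, pow_add, mul_comm]; norm_num
    have h3 : 1 ≤ (2 : ℕ) ^ (12 * n) := Nat.one_le_two_pow
    omega
  rw [fullM, h1, Nat.add_mul_div_left _ _ (by norm_num), add_comm]
  rfl

theorem fullM_lt (n : ℕ) : fullM n < 2 ^ (12 * n) := by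
  have h3 : 1 ≤ (2 : ℕ) ^ (12 * n) := Nat.one_le_two_pow
  have h4 : fullM n ≤ 2 ^ (12 * n) - 1 := Nat.div_le_self _ _
  omega

theorem testBit_fullM (n : ℕ) : ∀ b, (fullM n).testBit b = true ↔ ∃ i < n, b = 12 * i := by
  induction n with
  | zero => intro b; simp [fullM]
  | succ n ih =>
    intro b
    have h1 := Nat.two_pow_add_eq_or_of_lt (fullM_lt n) 1
    rw [Nat.mul_one] at h1
    rw [fullM_succ, h1, Nat.testBit_or, Bool.or_eq_true, ih, Nat.testBit_two_pow, decide_eq_true_eq]
    constructor
    · rintro (h | ⟨i, hi, rfl⟩)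
      · exact ⟨n, Nat.lt_succ_self n, h.symm⟩
      · exact ⟨i, Nat.lt_succ_of_lt hi, rfl⟩
    · rintro ⟨i, hi, rfl⟩
      rcases Nat.lt_succ_iff_lt_or_eq.1 hi with h | rfl
      · exact Or.inr ⟨i, h, rfl⟩
      · exact Or.inl rfl

theorem vm_fullM (n : ℕ) : Vm n (fullM n) := fun b hb => (testBit_fullM n b).1 hb

/-! ### mask programs -/

/-- run a mask program -/
noncomputable def runM (w n T : ℕ) (CT : List ℕ) (N : ℕ) (Ls : List (List ℕ)) (s : List Step) :
    List ℕ → (List ℕ → Bool) → Bool :=
  List.rec (fun ms k => k ms) (fun st _ ih ms k =>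
    Step.rec (motive := fun _ => Bool)
      (fun _ _ _ _ => false)
      (fun a j e => cond (Nat.blt j N) (mapF (linL CT) (nthL Ls j) fun CM => force (nth ms a) fun A =>
        force (filt (tSelf w T CM e) n A 0) fun m => ih (m :: ms) k) false)
      (fun a j e => cond (Nat.blt j N) (force (nth ms a) fun A =>
        force (filt (tFix w T (nthL Ls j) e) n A 0) fun m => ih (m :: ms) k) false)
      (fun a b j c => cond (Nat.blt j N) (mapF (linL CT) (nthL Ls j) fun CM => force (nth ms a) fun A =>
        force (nth ms b) fun D => force (filt (tCnt w T CM D c) n A 0) fun m => ih (m :: ms) k) false)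
      (fun a b => force (Nat.land (nth ms a) (nth ms b)) fun m => ih (m :: ms) k)
      (fun a b => force (nth ms a) fun A => force (Nat.xor A (Nat.land A (nth ms b))) fun m => ih (m :: ms) k)
      (fun _ => false) st) s

/-- the sizes of the masks -/
noncomputable def chkSz (ms : List ℕ) : List ℕ → Bool :=
  List.rec (fun sz => List.rec true (fun _ _ _ => false) sz)
    (fun m _ ih sz => List.rec false (fun s sz' _ => cond (Nat.beq (Nat.mod m 4095) s) (ih sz') false) sz) ms

theorem chkSz_iff {ms sz : List ℕ} (h : chkSz ms sz = true) : ms.map (fun m => m % 4095) = sz := by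
  induction ms generalizing sz with
  | nil =>
    cases sz with
    | nil => rfl
    | cons s sz => exact absurd h Bool.false_ne_true
  | cons m ms ih =>
    cases sz with
    | nil => exact absurd h Bool.false_ne_true
    | cons s sz =>
      have h' : cond (Nat.beq (m % 4095) s) (chkSz ms sz) false = true := h
      cases hb : Nat.beq (m % 4095) s
      · rw [hb] at h'; exact absurd h' Bool.false_ne_true
      · rw [hb] at h'
        rw [List.map_cons, Nat.eq_of_beq_eq_true hb, ih h']

section

variable {G : Type*} [Group G] {Y : Type*} [MulAction G Y] {M : Mdl G Y}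

/-- the masks correspond under `a` -/
def Cor (M : Mdl G Y) (a : G) (A A' : ℕ) : Prop :=
  Vm M.n A ∧ Vm M.n A' ∧ ∀ y : Y, M.mem A' (a • y) ↔ M.mem A y

theorem Cor.zero {a : G} : Cor M a 0 0 :=
  ⟨fun b hb => by simp at hb, fun b hb => by simp at hb, fun y => by simp [Mdl.mem]⟩

theorem Cor.full {a : G} : Cor M a (fullM M.n) (fullM M.n) := by
  refine ⟨vm_fullM _, vm_fullM _, fun y => ?_⟩
  unfold Mdl.mem
  rw [testBit_fullM, testBit_fullM]
  exact ⟨fun _ => ⟨_, M.idx_lt y, rfl⟩, fun _ => ⟨_, M.idx_lt _, rfl⟩⟩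

theorem Cor.card {a : G} {A A' : ℕ} (h : Cor M a A A') : A % 4095 = A' % 4095 := by
  rw [← M.card_mask h.1, ← M.card_mask h.2.1]
  exact Nat.card_congr (Equiv.subtypeEquiv (MulAction.toPerm a) fun y => (h.2.2 y).symm)

theorem Cor.and {a : G} {A A' B B' : ℕ} (h : Cor M a A A') (h' : Cor M a B B') : Cor M a (A &&& B) (A' &&& B') := by
  refine ⟨h.1.and, h.2.1.and, fun y => ?_⟩
  have h1 := h.2.2 y
  have h2 := h'.2.2 y
  unfold Mdl.mem at *
  rw [Nat.testBit_and, Nat.testBit_and, Bool.and_eq_true, Bool.and_eq_true, h1, h2]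

theorem Cor.andn {a : G} {A A' B B' : ℕ} (h : Cor M a A A') (h' : Cor M a B B') :
    Cor M a (A ^^^ (A &&& B)) (A' ^^^ (A' &&& B')) := by
  refine ⟨h.1.xor h.1.and, h.2.1.xor h.2.1.and, fun y => ?_⟩
  have h1 := h.2.2 y
  have h2 := h'.2.2 y
  unfold Mdl.mem at *
  rw [Nat.testBit_xor, Nat.testBit_and, Nat.testBit_xor, Nat.testBit_and]
  rw [← Bool.eq_iff_iff] at h1 h2
  rw [h1, h2]

theorem Cor.filt {a : G} {A A' : ℕ} (h : Cor M a A A') {t t' : ℕ → Bool}
    (ht : ∀ y : Y, t' (M.idx (a • y)) = t (M.idx y)) : Cor M a (filt t M.n A 0) (filt t' M.n A' 0) := by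
  refine ⟨h.1.filt t, h.2.1.filt t', fun y => ?_⟩
  have h1 := h.2.2 y
  unfold Mdl.mem at *
  rw [testBit_filt' h.1, testBit_filt' h.2.1, Bool.and_eq_true, Bool.and_eq_true, ht y, h1]

theorem cor_nth {a : G} {ms ms' : List ℕ} (h : List.Forall₂ (Cor M a) ms ms') (k : ℕ) :
    Cor M a (nth ms k) (nth ms' k) := by
  induction h generalizing k with
  | nil => exact Cor.zero
  | cons h1 _ ih =>
    cases k with
    | zero => exact h1
    | succ k => exact ih k

theorem runM_sound {Ls Ls' : List (List ℕ)} {N : ℕ} {r a : G} (hLs : ∀ j < N, M.Rp (Ls.getD j []) (r ^ j))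
    (hLs' : ∀ j < N, M.Rp (Ls'.getD j []) ((a * r * a⁻¹) ^ j)) (s : List Step) (k k' : List ℕ → Bool) :
    ∀ ms ms' : List ℕ, List.Forall₂ (Cor M a) ms ms' → runM M.w M.n M.T M.CT N Ls s ms k = true →
      runM M.w M.n M.T M.CT N Ls' s ms' k' = true →
      ∃ m m' : List ℕ, List.Forall₂ (Cor M a) m m' ∧ k m = true ∧ k' m' = true := by
  have hp : ∀ (j : ℕ) (y : Y), (a * r * a⁻¹) ^ j • a • y = a • r ^ j • y := by
    intro j y
    rw [conj_pow, ← mul_smul, ← mul_smul]
    congr 1
    group
  induction s with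
  | nil => intro ms ms' h h1 h2; exact ⟨ms, ms', h, h1, h2⟩
  | cons st s ih =>
    intro ms ms' h h1 h2
    cases st with
    | base m i sz js => exact absurd h1 Bool.false_ne_true
    | self b j e =>
      have h1' : cond (Nat.blt j N) (mapF (linL M.CT) (nthL Ls j) fun CM => force (nth ms b) fun A =>
        force (filt (tSelf M.w M.T CM e) M.n A 0) fun m => runM M.w M.n M.T M.CT N Ls s (m :: ms) k) false = true := h1
      have h2' : cond (Nat.blt j N) (mapF (linL M.CT) (nthL Ls' j) fun CM => force (nth ms' b) fun A =>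
        force (filt (tSelf M.w M.T CM e) M.n A 0) fun m => runM M.w M.n M.T M.CT N Ls' s (m :: ms') k') false = true :=
        h2
      cases hj : Nat.blt j N
      · rw [hj] at h1'; exact absurd h1' Bool.false_ne_true
      rw [hj] at h1' h2'
      simp only [cond_true, force_eq, mapF_eq, nthL_eq] at h1' h2'
      have hjN : j < N := by simpa [Nat.blt_eq] using hj
      refine ih _ _ (List.Forall₂.cons ((cor_nth h b).filt fun y => ?_) h) h1' h2'
      rw [tSelf_eq (hLs' j hjN), tSelf_eq (hLs j hjN), hp, M.inv]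
    | fixd b j e =>
      classical
      have h1' : cond (Nat.blt j N) (force (nth ms b) fun A =>
        force (filt (tFix M.w M.T (nthL Ls j) e) M.n A 0) fun m => runM M.w M.n M.T M.CT N Ls s (m :: ms) k) false =
          true := h1
      have h2' : cond (Nat.blt j N) (force (nth ms' b) fun A =>
        force (filt (tFix M.w M.T (nthL Ls' j) e) M.n A 0) fun m =>
          runM M.w M.n M.T M.CT N Ls' s (m :: ms') k') false = true := h2
      cases hj : Nat.blt j N
      · rw [hj] at h1'; exact absurd h1' Bool.false_ne_true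
      rw [hj] at h1' h2'
      simp only [cond_true, force_eq, nthL_eq] at h1' h2'
      have hjN : j < N := by simpa [Nat.blt_eq] using hj
      refine ih _ _ (List.Forall₂.cons ((cor_nth h b).filt fun y => ?_) h) h1' h2'
      rw [tFix_eq (hLs' j hjN), tFix_eq (hLs j hjN)]
      have h3 : ((a * r * a⁻¹) ^ j • a • y = a • y) ↔ (r ^ j • y = y) := by
        rw [hp]
        exact (MulAction.injective a).eq_iff
      simp only [h3]
    | cnt b d j c =>
      have h1' : cond (Nat.blt j N) (mapF (linL M.CT) (nthL Ls j) fun CM => force (nth ms b) fun A =>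
        force (nth ms d) fun D => force (filt (tCnt M.w M.T CM D c) M.n A 0) fun m =>
          runM M.w M.n M.T M.CT N Ls s (m :: ms) k) false = true := h1
      have h2' : cond (Nat.blt j N) (mapF (linL M.CT) (nthL Ls' j) fun CM => force (nth ms' b) fun A =>
        force (nth ms' d) fun D => force (filt (tCnt M.w M.T CM D c) M.n A 0) fun m =>
          runM M.w M.n M.T M.CT N Ls' s (m :: ms') k') false = true := h2
      cases hj : Nat.blt j N
      · rw [hj] at h1'; exact absurd h1' Bool.false_ne_true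
      rw [hj] at h1' h2'
      simp only [cond_true, force_eq, mapF_eq, nthL_eq] at h1' h2'
      have hjN : j < N := by simpa [Nat.blt_eq] using hj
      refine ih _ _ (List.Forall₂.cons ((cor_nth h b).filt fun y => ?_) h) h1' h2'
      rw [tCnt_eq (linL_row (hLs' j hjN)), tCnt_eq (linL_row (hLs j hjN))]
      congr 1
      refine (Nat.card_congr (Equiv.subtypeEquiv (MulAction.toPerm a) fun z => ?_)).symm
      show _ ↔ M.bf (a • z) ((a * r * a⁻¹) ^ j • a • y) = true ∧ M.mem (nth ms' d) (a • z)
      rw [hp, M.inv, (cor_nth h d).2.2 z]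
    | and b d =>
      have h1' : force (Nat.land (nth ms b) (nth ms d)) (fun m => runM M.w M.n M.T M.CT N Ls s (m :: ms) k) = true := h1
      have h2' : force (Nat.land (nth ms' b) (nth ms' d)) (fun m => runM M.w M.n M.T M.CT N Ls' s (m :: ms') k') =
        true := h2
      rw [force_eq] at h1' h2'
      exact ih _ _ (List.Forall₂.cons ((cor_nth h b).and (cor_nth h d)) h) h1' h2'
    | andn b d =>
      have h1' : force (nth ms b) (fun A => force (Nat.xor A (Nat.land A (nth ms d)))
        fun m => runM M.w M.n M.T M.CT N Ls s (m :: ms) k) = true := h1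
      have h2' : force (nth ms' b) (fun A => force (Nat.xor A (Nat.land A (nth ms' d)))
        fun m => runM M.w M.n M.T M.CT N Ls' s (m :: ms') k') = true := h2
      rw [force_eq, force_eq] at h1' h2'
      exact ih _ _ (List.Forall₂.cons ((cor_nth h b).andn (cor_nth h d)) h) h1' h2'
    | fin sel => exact absurd h1 Bool.false_ne_true

theorem sizes_eq {a : G} {ms ms' : List ℕ} (h : List.Forall₂ (Cor M a) ms ms') :
    ms.map (fun m => m % 4095) = ms'.map (fun m => m % 4095) := by
  induction h with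
  | nil => rfl
  | cons h1 _ ih => rw [List.map_cons, List.map_cons, h1.card, ih]

/-! ### checks of one element -/

/-- sizes of the masks of a program -/
noncomputable def chkI (w n T : ℕ) (CT : List ℕ) (L : List ℕ) (m : ℕ) (s : List Step) (sz : List ℕ) : Bool :=
  pwF L m (idL w) fun Ls => runM w n T CT (Nat.succ m) Ls s [fullM n] fun ms => chkSz ms sz

/-- bound of the centralizer -/
noncomputable def chkB (w n T : ℕ) (CT : List ℕ) (L : List ℕ) (m : ℕ) (s : List Step) : Bool :=
  pwF L m (idL w) fun Ls => chk w n T CT (Nat.succ m) Ls s [fullM n] []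

theorem rp_pw {L : List ℕ} {r : G} (hL : M.Rp L r) (m : ℕ) :
    ∀ j < m + 1, M.Rp ((pw L m (idL M.w)).getD j []) (r ^ j) := by
  intro j hj
  have h := Mdl.Rp.pw M hL m (idL M.w) 0 (by rw [pow_zero]; exact Mdl.Rp.one M) j (Nat.le_of_lt_succ hj)
  rwa [Nat.zero_add] at h

/-- **the sizes are invariants** -/
theorem sizes_conj {L L' : List ℕ} {r a : G} (hL : M.Rp L r) (hL' : M.Rp L' (a * r * a⁻¹)) {m : ℕ} {s : List Step}
    {sz sz' : List ℕ} (h : chkI M.w M.n M.T M.CT L m s sz = true) (h' : chkI M.w M.n M.T M.CT L' m s sz' = true) :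
    sz = sz' := by
  unfold chkI at h h'
  rw [pwF_eq] at h h'
  obtain ⟨ms, ms', h1, h2, h3⟩ := runM_sound (rp_pw hL m) (rp_pw hL' m) s _ _ [fullM M.n] [fullM M.n]
    (List.Forall₂.cons Cor.full List.Forall₂.nil) h h'
  rw [← chkSz_iff h2, ← chkSz_iff h3, sizes_eq h1]

/-- **the bound** -/
theorem card_centralizer_le [Finite G] {L : List ℕ} {r : G} (hL : M.Rp L r) {m : ℕ} {s : List Step}
    (h : chkB M.w M.n M.T M.CT L m s = true) : Nat.card ↥(Subgroup.centralizer {r}) ≤ prodB s := by
  unfold chkB at h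
  rw [pwF_eq] at h
  refine chk_sound (rp_pw hL m) s [fullM M.n] [] _ (fun x hx => ?_) (fun A hA => ?_) (fun v hv => ?_) h
  · exact Subgroup.mem_centralizer_singleton_iff.1 hx
  · obtain rfl : A = fullM M.n := by simpa using hA
    exact ⟨vm_fullM _, fun x _ y => (Cor.full (M := M) (a := x)).2.2 y⟩
  · exact absurd hv List.not_mem_nil

/-! ### words -/

/-- the matrix of a word, eager; `gs` matrices of the letters, `cur` the matrix of the prefix -/
noncomputable def wordF {β : Sort _} (gs : List (List ℕ)) (ws : List ℕ) : List ℕ → (List ℕ → β) → β :=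
  List.rec (fun cur k => k cur) (fun x _ ih cur k => mapF (linL cur) (nthL gs x) fun nx => ih nx k) ws

/-- the matrix of a word -/
noncomputable def word (gs : List (List ℕ)) : List ℕ → List ℕ → List ℕ
  | [], cur => cur
  | x :: ws, cur => word gs ws ((gs.getD x []).map (linL cur))

theorem wordF_eq {β : Sort _} (gs : List (List ℕ)) (ws : List ℕ) : ∀ (cur : List ℕ) (k : List ℕ → β),
    wordF gs ws cur k = k (word gs ws cur) := by
  induction ws with
  | nil => intro cur k; rfl
  | cons x ws ih =>
    intro cur k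
    show mapF (linL cur) (nthL gs x) (fun nx => wordF gs ws nx k) = _
    rw [mapF_eq, ih, nthL_eq]
    rfl

/-- the product of the letters of a word -/
def el {H : Type*} [Group H] (g : ℕ → H) (ws : List ℕ) : H := (ws.map g).prod

theorem rp_word {gs : List (List ℕ)} {g : ℕ → G} {N : ℕ} (hg : ∀ x < N, M.Rp (gs.getD x []) (g x)) :
    ∀ (ws : List ℕ), (∀ x ∈ ws, x < N) → ∀ (cur : List ℕ) (c : G), M.Rp cur c → M.Rp (word gs ws cur) (c * el g ws) := by
  intro ws
  induction ws with
  | nil => intro _ cur c h; simpa [el, word] using h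
  | cons x ws ih =>
    intro hw cur c h
    have h1 := ih (fun y hy => hw y (List.mem_cons_of_mem _ hy)) _ _ (Mdl.Rp.mul M h (hg x (hw x List.mem_cons_self)))
    have h2 : c * el g (x :: ws) = c * g x * el g ws := by
      rw [el, List.map_cons, List.prod_cons, ← mul_assoc]; rfl
    rw [h2]
    exact h1

/-- equality of lists -/
noncomputable def beqL (L : List ℕ) : List ℕ → Bool :=
  List.rec (fun L' => List.rec true (fun _ _ _ => false) L')
    (fun a _ ih L' => List.rec false (fun b l _ => cond (Nat.beq a b) (ih l) false) L') L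

theorem beqL_iff {L L' : List ℕ} (h : beqL L L' = true) : L = L' := by
  induction L generalizing L' with
  | nil =>
    cases L' with
    | nil => rfl
    | cons s sz => exact absurd h Bool.false_ne_true
  | cons m ms ih =>
    cases L' with
    | nil => exact absurd h Bool.false_ne_true
    | cons s sz =>
      have h' : cond (Nat.beq m s) (beqL ms sz) false = true := h
      cases hb : Nat.beq m s
      · rw [hb] at h'; exact absurd h' Bool.false_ne_true
      · rw [hb] at h'
        rw [Nat.eq_of_beq_eq_true hb, ih h']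

/-- the matrix of the word is `L`, the letters are less than `N` -/
noncomputable def chkWd (w : ℕ) (gs : List (List ℕ)) (N : ℕ) (ws L : List ℕ) : Bool :=
  cond (allLt N ws) (wordF gs ws (idL w) fun L' => beqL L' L) false

theorem rp_of_chkWd {gs : List (List ℕ)} {g : ℕ → G} {N : ℕ} (hg : ∀ x < N, M.Rp (gs.getD x []) (g x)) {ws L : List ℕ}
    (h : chkWd M.w gs N ws L = true) : M.Rp L (el g ws) := by
  unfold chkWd at h
  cases h1 : allLt N ws
  · rw [h1] at h; exact absurd h Bool.false_ne_true
  · rw [h1, cond_true, wordF_eq] at h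
    rw [← beqL_iff h]
    have h2 := rp_word hg ws (allLt_iff h1) (idL M.w) 1 (Mdl.Rp.one M)
    rwa [one_mul] at h2

theorem rp_inj {L : List ℕ} {r s : G} (h : M.Rp L r) (h' : M.Rp L s) : r = s := by
  have h1 : s⁻¹ * r = 1 := by
    refine M.faithful _ fun y => ?_
    rw [mul_smul, inv_smul_eq_iff]
    exact M.cd_inj ((h y).trans (h' y).symm)
  rwa [inv_mul_eq_one, eq_comm] at h1

end

/-! ### the cover -/

/-- one class: matrix, exponent and program of the bound -/
structure Cl where
  /-- matrix -/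
  L : List ℕ
  /-- number of powers -/
  m : ℕ
  /-- certificate -/
  s : List Step
  /-- invariants -/
  sz : List ℕ

/-- **The cover theorem.** -/
theorem cover_mdl {G : Type*} [Group G] [Finite G] {Y : Type*} [MulAction G Y] (M : Mdl G Y) (N : Subgroup G)
    (hN : ∀ a x : G, x ∈ N → a * x * a⁻¹ ∈ N) (D : List Cl) (hr : ∀ d ∈ D, ∃ r ∈ N, M.Rp d.L r)
    (hb : ∀ d ∈ D, chkB M.w M.n M.T M.CT d.L d.m d.s = true) (m : ℕ) (s : List Step)
    (hs : ∀ d ∈ D, chkI M.w M.n M.T M.CT d.L m s d.sz = true)
    (hnd : (D.map fun d => d.sz).Nodup) {c a : ℕ} (ha : a ≤ Nat.card G) (hc : Nat.card N ≤ c)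
    (hsum : c ≤ (D.map fun d => a / prodB d.s).sum) :
    ∀ g ∈ N, ∃ d ∈ D, ∃ r ∈ N, M.Rp d.L r ∧ ∃ x : G, g = x * r * x⁻¹ := by
  classical
  let r : Cl → G := fun d => if h : ∃ r ∈ N, M.Rp d.L r then h.choose else 1
  have hr1 : ∀ d ∈ D, r d ∈ N ∧ M.Rp d.L (r d) := by
    intro d hd
    have h := hr d hd
    have e : r d = h.choose := dif_pos h
    rw [e]
    exact h.choose_spec
  have h1 : D.Pairwise fun d d' => ∀ x : G, x * r d * x⁻¹ ≠ r d' := by
    have h2 : D.Pairwise fun d d' => d.sz ≠ d'.sz := List.pairwise_map.1 hnd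
    refine h2.imp_of_mem ?_
    intro d d' hd hd' hne x hx
    apply hne
    have h3 := (hr1 d' hd').2
    rw [← hx] at h3
    exact sizes_conj (hr1 d hd).2 h3 (hs d hd) (hs d' hd')
  have h2 : Nat.card N ≤ (D.map fun d => Nat.card G / prodB d.s).sum :=
    hc.trans (hsum.trans (List.sum_le_sum fun d _ => Nat.div_le_div_right ha))
  intro g hg
  obtain ⟨d, hd, x, h⟩ := cover_list N hN D r (fun d hd => (hr1 d hd).1) (fun d => prodB d.s)
    (fun d hd => card_centralizer_le (hr1 d hd).2 (hb d hd)) h1 h2 g hg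
  exact ⟨d, hd, r d, (hr1 d hd).1, (hr1 d hd).2, x, h⟩

end Cfsg.Agent.H934.Ore
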