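import Cfsg.Agent.H123.Cls.ListCover

/-!
# Class covers with joint invariants (helper934)

The same as `H123/Cls/ListCover`, with keys `(a, b)` : number of points `p` in the mask of `a` and in the mask of `b`
(`a`, `b` : `(true, j)` = joined to the image under `r ^ j`, `(false, j)` = fixed by `r ^ j`).
-/

set_option autoImplicit false

namespace Cfsg.Agent.H934.Ore

open Equiv Cfsg.Agent.Lib.BitNet Cfsg.Agent.H123.Cls
open Cfsg.Agent.Lib.BitNetSimple (force force_eq)

/-- size of the intersection of the masks -/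
noncomputable def sizeJ (n K : ℕ) (row : ℕ → ℕ) (w P : ℕ) (a : (Bool × ℕ) × (Bool × ℕ)) : ℕ :=
  force (pwM n K row w P a.1) fun x => force (pwM n K row w P a.2) fun y => popF K (Nat.land x y)

/-- the invariants -/
noncomputable def chkSigJ (n K : ℕ) (row : ℕ → ℕ) (w P : ℕ) (l : List ((Bool × ℕ) × (Bool × ℕ))) : List ℕ → Bool :=
  List.rec (fun _ => true) (fun a _ ih cs => band (Nat.beq (sizeJ n K row w P a) (nth cs 0)) (ih cs.tail)) l

/-- the joint invariant of a permutation -/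
noncomputable def pwj {n : ℕ} (row : ℕ → ℕ) (r : Perm (Fin n)) (a : (Bool × ℕ) × (Bool × ℕ)) : ℕ :=
  Nat.card {p : Fin n // Pw row a.1.1 p ((r ^ a.1.2) p) ∧ Pw row a.2.1 p ((r ^ a.2.2) p)}

section

variable {n K : ℕ} {row : ℕ → ℕ} {w P : ℕ}

theorem sizeJ_eq (hn : n ≤ 2 ^ K) {r : Perm (Fin n)} (hr : ∀ i, (r i : ℕ) = lk w P i)
    (a : (Bool × ℕ) × (Bool × ℕ)) : sizeJ n K row w P a = pwj row r a := by
  have e : sizeJ n K row w P a = popF K (pwM n K row w P a.1 &&& pwM n K row w P a.2) := by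
    unfold sizeJ
    rw [force_eq, force_eq]
    rfl
  rw [e, popF_eq]
  have h1 := card_pts_le (n := n) hn (pwM n K row w P a.1 &&& pwM n K row w P a.2)
  have h2 := card_pts_eq (n := n) (K := K) (x := pwM n K row w P a.1 &&& pwM n K row w P a.2) (fun i hi => by
    rw [Nat.testBit_and, Bool.and_eq_true] at hi
    exact pwM_lt _ i hi.1)
  rw [le_antisymm h2 h1, pwj, ← Fintype.card_coe, ← Nat.card_eq_fintype_card]
  exact Nat.card_congr (Equiv.subtypeEquivRight fun i => by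
    rw [mem_pts, Nat.testBit_and, Bool.and_eq_true, testBit_pwM hn hr, testBit_pwM hn hr])

theorem sig_of_chkJ (hn : n ≤ 2 ^ K) {r : Perm (Fin n)} (hr : ∀ i, (r i : ℕ) = lk w P i) :
    ∀ {l : List ((Bool × ℕ) × (Bool × ℕ))} {cs : List ℕ}, chkSigJ n K row w P l cs = true → cs.length = l.length →
      l.map (pwj row r) = cs
  | [], cs, _, hl => by
    rw [List.map_nil]
    exact (List.length_eq_zero_iff.1 hl).symm
  | a :: l, [], _, hl => by simp at hl
  | a :: l, c :: cs, h, hl => by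
    have e : chkSigJ n K row w P (a :: l) (c :: cs) =
      band (Nat.beq (sizeJ n K row w P a) c) (chkSigJ n K row w P l cs) := rfl
    rw [e] at h
    obtain ⟨h1, h2⟩ := band_true h
    have h3 := Nat.eq_of_beq_eq_true h1
    rw [sizeJ_eq hn hr] at h3
    rw [List.map_cons, h3, sig_of_chkJ hn hr h2 (by simpa using hl)]

theorem pwj_conj {σ r : Perm (Fin n)} (hσ : σ ∈ Aut n row) (a : (Bool × ℕ) × (Bool × ℕ)) :
    pwj row (σ * r * σ⁻¹) a = pwj row r a := by
  unfold pwj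
  have h : ∀ (j : ℕ) (b : Bool) (p : Fin n), Pw row b (σ p) (((σ * r * σ⁻¹) ^ j) (σ p)) ↔ Pw row b p ((r ^ j) p) := by
    intro j b p
    have e : ((σ * r * σ⁻¹) ^ j) (σ p) = σ ((r ^ j) p) := by
      rw [conj_pow, Perm.mul_apply, Perm.mul_apply]
      exact congrArg (fun q => σ ((r ^ j) q)) (Equiv.symm_apply_apply σ p)
    rw [e, Pw_conj hσ]
  exact (Nat.card_congr (Equiv.subtypeEquiv σ fun p => by rw [h, h])).symm

/-- **The classes cover the group**, joint invariants. -/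
theorem cover_J {A N : Subgroup (Perm (Fin n))} (hn : n ≤ 2 ^ K) (hA : A ≤ Aut n row)
    (hnA : ∀ a ∈ A, ∀ x ∈ N, a * x * a⁻¹ ∈ N) {a : ℕ} (haA : a ≤ Nat.card A) (D : List (ℕ × ℕ × List ℕ))
    (hr : ∀ x ∈ D, ∃ g ∈ N, ∀ p : Fin n, (g p : ℕ) = lk w x.1 p)
    (hc : ∀ x ∈ D, ∃ l L, chkB n K row w x.1 l L x.2.1 = true)
    (key : List ((Bool × ℕ) × (Bool × ℕ))) (hs : ∀ x ∈ D, chkSigJ n K row w x.1 key x.2.2 = true)
    (hl : ∀ x ∈ D, x.2.2.length = key.length) (hnd : (D.map fun x => x.2.2).Nodup)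
    (hsum : Nat.card N ≤ (D.map fun x => a / (x.2.1 + 1)).sum) :
    ∀ g ∈ N, ∃ x ∈ D, ∃ r ∈ N, (∀ p : Fin n, (r p : ℕ) = lk w x.1 p) ∧ ∃ b ∈ A, g = b * r * b⁻¹ := by
  have hmem : ∀ i : Fin D.length, D[i.1] ∈ D := fun i => List.getElem_mem i.2
  have hinj : Function.Injective (fun i : Fin D.length => (D[i.1]).2.2) := by
    intro i j hij
    have h1 := (List.nodup_iff_injective_get.1 hnd)
    have h2 : (⟨i.1, by rw [List.length_map]; exact i.2⟩ : Fin (D.map fun x => x.2.2).length) =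
        ⟨j.1, by rw [List.length_map]; exact j.2⟩ := by
      apply h1
      simpa using hij
    have h3 := congrArg Fin.val h2
    exact Fin.ext h3
  have hsum' : Nat.card N ≤ ∑ i : Fin D.length, a / ((D[i.1]).2.1 + 1) := by
    rw [Fin.sum_univ_fun_getElem D (fun x => a / (x.2.1 + 1))]
    exact hsum
  have hr' : ∀ i : Fin D.length, ∃ g ∈ N, ∀ p : Fin n, (g p : ℕ) = lk w (D[i.1]).1 p := fun i => hr _ (hmem i)
  choose r hrN hrp using hr'
  have h := cover hnA r hrN (fun i => (D[i.1]).2.1 + 1) (fun i => ?_) (fun i j hij a ha h1 => ?_)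
    (hsum'.trans (Finset.sum_le_sum fun i _ => Nat.div_le_div_right haA))
  · intro g hg
    obtain ⟨i, a, ha, h1⟩ := h g hg
    exact ⟨_, hmem i, r i, hrN i, hrp i, a, ha, h1⟩
  · obtain ⟨l, L, h1⟩ := hc _ (hmem i)
    refine card_le_bound hn (hrp i) h1 (inf_le_left.trans hA) fun σ hσ p => ?_
    have h2 := Subgroup.mem_centralizer_singleton_iff.1 (Subgroup.mem_inf.1 hσ).2
    exact congrArg (fun τ : Perm (Fin n) => τ p) h2
  · apply hij
    apply hinj
    show (D[i.1]).2.2 = (D[j.1]).2.2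
    rw [← sig_of_chkJ hn (hrp i) (hs _ (hmem i)) (hl _ (hmem i)),
      ← sig_of_chkJ hn (hrp j) (hs _ (hmem j)) (hl _ (hmem j))]
    refine List.map_congr_left fun k _ => ?_
    rw [← h1, pwj_conj (hA ha)]

end

end Cfsg.Agent.H934.Ore
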