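import Cfsg.Agent.H123.Cls.Cover
import Cfsg.Agent.H777.Ore.Base
import Cfsg.Agent.H78.Pw.Base
import Cfsg.Agent.H134.Sq.Base

/-!
# From a list of commutators of words to the rows of S2443, S4171, S2453, S2465 (helper934)

Every element of `G` is the image under an automorphism of one of the commutators `[t₁ t₂, b]` of words, `t₁ ^ 2 = 1`,
`t₂ ^ 2 = 1`, `(t₁ t₂) ^ p = 1`, `p ≥ 5` a prime, `r ^ o = 1` with `p ∤ o`.
-/

set_option autoImplicit false

namespace Cfsg.Agent.H934.Ore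

open Equiv Cfsg.Agent.Lib.BitNet Cfsg.Agent.H123.Cls
open Cfsg.Agent.Lib.BitNetSimple (force force_eq)
open Cfsg.Agent.H777.Ore Cfsg.Agent.H78.Pw Cfsg.Agent.H134.Sq

/-- words of a representative -/
structure WD where
  /-- first involution -/
  t1 : List ℕ
  /-- second involution -/
  t2 : List ℕ
  /-- conjugating word -/
  b : List ℕ
  /-- order of `t1 t2` -/
  p : ℕ
  /-- order of the commutator -/
  o : ℕ

section

variable {G : Type*} [Group G]

/-- value of a word -/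
def wd (g : ℕ → G) (ws : List ℕ) : G := (ws.map g).prod

theorem wd_nil (g : ℕ → G) : wd g [] = 1 := rfl

theorem wd_cons (g : ℕ → G) (x : ℕ) (ws : List ℕ) : wd g (x :: ws) = g x * wd g ws := by
  simp only [wd, List.map_cons, List.prod_cons]

theorem wd_append (g : ℕ → G) (a b : List ℕ) : wd g (a ++ b) = wd g a * wd g b := by
  simp only [wd, List.map_append, List.prod_append]

theorem wd_reverse {g : ℕ → G} {N : ℕ} (hg : ∀ x < N, g x * g x = 1) : ∀ {ws : List ℕ}, (∀ x ∈ ws, x < N) →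
    wd g ws.reverse = (wd g ws)⁻¹
  | [], _ => by simp [wd]
  | x :: ws, h => by
    rw [List.reverse_cons, wd_append, wd_reverse hg (fun y hy => h y (List.mem_cons_of_mem _ hy)), wd_cons, wd_cons,
      wd_nil, mul_one, mul_inv_rev]
    congr 1
    exact eq_inv_of_mul_eq_one_left (hg x (h x List.mem_cons_self))

theorem wd_invol {g : ℕ → G} {N : ℕ} (hg : ∀ x < N, g x * g x = 1) {ws : List ℕ} (h : ∀ x ∈ ws, x < N)
    (hr : ws.reverse = ws) : wd g ws * wd g ws = 1 := by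
  have h1 := wd_reverse hg h
  rw [hr] at h1
  nth_rewrite 1 [h1]
  exact inv_mul_cancel _

/-- the commutator -/
def WD.r (d : WD) (g : ℕ → G) : G := wd g (d.t1 ++ d.t2) * wd g d.b * (wd g (d.t1 ++ d.t2))⁻¹ * (wd g d.b)⁻¹

/-- every element is the image of a representative under an automorphism -/
def Cov (W : List WD) (g : ℕ → G) : Prop := ∀ x : G, ∃ d ∈ W, ∃ θ : MulAut G, x = θ (d.r g)

variable {W : List WD} {g : ℕ → G}

theorem allC_of_cov (h : Cov W g) : AllC G := by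
  intro x
  obtain ⟨d, -, θ, rfl⟩ := h x
  exact IsC.map θ.toMonoidHom ⟨_, _, rfl⟩

theorem inv4_of_cov (h : Cov W g) (hW : ∀ d ∈ W, wd g d.t1 ^ 2 = 1 ∧ wd g d.t2 ^ 2 = 1) : Inv4 G := by
  intro x
  obtain ⟨d, hd, θ, rfl⟩ := h x
  obtain ⟨e1, e2⟩ := hW d hd
  rw [pow_two] at e1 e2
  have i1 : (wd g d.t1)⁻¹ = wd g d.t1 := inv_eq_of_mul_eq_one_left e1
  have i2 : (wd g d.t2)⁻¹ = wd g d.t2 := inv_eq_of_mul_eq_one_left e2
  have k1 : ∀ y z : G, z * z = 1 → (y * z * y⁻¹) * (y * z * y⁻¹) = 1 := by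
    intro y z hz
    calc (y * z * y⁻¹) * (y * z * y⁻¹) = y * (z * z) * y⁻¹ := by group
      _ = 1 := by rw [hz]; group
  have k2 : ∀ z : G, z * z = 1 → θ z * θ z = 1 := by
    intro z hz
    rw [← map_mul, hz, map_one]
  refine ⟨θ (wd g d.t1), θ (wd g d.t2), θ (wd g d.b * wd g d.t2 * (wd g d.b)⁻¹),
    θ (wd g d.b * wd g d.t1 * (wd g d.b)⁻¹), k2 _ e1, k2 _ e2, k2 _ (k1 _ _ e2), k2 _ (k1 _ _ e1), ?_⟩
  rw [← map_mul, ← map_mul, ← map_mul]
  congr 1
  rw [WD.r, wd_append, mul_inv_rev, i1, i2]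
  group

theorem coprime_of_pow {n p : ℕ} {a : G} (h : a ^ p = 1) (hp : p.Coprime n) : (orderOf a).Coprime n :=
  Nat.Coprime.of_dvd_left (orderOf_dvd_of_pow_eq_one h) hp

theorem pr_of_pow {n : ℕ} {d : WD} (h : wd g (d.t1 ++ d.t2) ^ d.p = 1) (hp : d.p.Coprime n) : Pr n (d.r g) := by
  refine ⟨wd g (d.t1 ++ d.t2), wd g d.b * (wd g (d.t1 ++ d.t2))⁻¹ * (wd g d.b)⁻¹, ?_, coprime_of_pow h hp,
    coprime_of_pow (p := d.p) ?_ hp⟩
  · rw [WD.r]; group
  · rw [conj_pow, inv_pow, h]; group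

theorem pw_of_cov (h : Cov W g) (h1 : ∀ d ∈ W, wd g (d.t1 ++ d.t2) ^ d.p = 1 ∧ d.r g ^ d.o = 1 ∧
    d.p.Prime ∧ 5 ≤ d.p ∧ d.p.Coprime d.o) : Pw G := by
  constructor
  · intro x
    obtain ⟨d, hd, θ, rfl⟩ := h x
    obtain ⟨e1, e2, e3, e4, e5⟩ := h1 d hd
    refine Pr.map (pr_of_pow e1 ?_) θ.toMonoidHom
    rw [Nat.Prime.coprime_iff_not_dvd e3]
    intro h6
    have h7 := Nat.le_of_dvd (by norm_num) h6
    have h8 : d.p = 5 ∨ d.p = 6 := by omega
    rcases h8 with h8 | h8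
    · rw [h8] at h6; revert h6; norm_num
    · rw [h8] at e3; revert e3; norm_num
  · intro q hq _ x
    obtain ⟨d, hd, θ, rfl⟩ := h x
    obtain ⟨e1, e2, e3, e4, e5⟩ := h1 d hd
    by_cases hpq : d.p = q
    · refine Pr.map (Pr.of_coprime (coprime_of_pow e2 ?_)) θ.toMonoidHom
      rw [← hpq]
      exact e5.symm
    · exact Pr.map (pr_of_pow e1 ((Nat.coprime_primes e3 hq).2 hpq)) θ.toMonoidHom

theorem sq_of_cov (h : Cov W g) (h1 : ∀ d ∈ W, wd g (d.t1 ++ d.t2) ^ d.p = 1 ∧ d.p % 2 = 1) : AllP 2 G := by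
  intro x
  obtain ⟨d, hd, θ, rfl⟩ := h x
  obtain ⟨e1, e2⟩ := h1 d hd
  have key : ∀ a : G, a ^ d.p = 1 → a = (a ^ ((d.p + 1) / 2)) ^ 2 := by
    intro a ha
    rw [← pow_mul]
    have h3 : (d.p + 1) / 2 * 2 = d.p + 1 := by omega
    rw [h3, pow_succ, ha, one_mul]
  refine IsP.map θ.toMonoidHom ?_
  refine ⟨wd g (d.t1 ++ d.t2) ^ ((d.p + 1) / 2),
    (wd g d.b * (wd g (d.t1 ++ d.t2))⁻¹ * (wd g d.b)⁻¹) ^ ((d.p + 1) / 2), ?_⟩
  rw [← key _ e1, ← key]
  · rw [WD.r]; group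
  · rw [conj_pow, inv_pow, e1]; group

end

/-! ### checks by tables -/

section

variable {G : Type*} [Group G] {n w : ℕ} {ρ : G →* Perm (Fin n)} {g : ℕ → G} {gens : List ℕ} {N : ℕ}

/-- the letters are given by the tables -/
def Let (w : ℕ) (ρ : G →* Perm (Fin n)) (g : ℕ → G) (gens : List ℕ) (N : ℕ) : Prop :=
  ∀ x < N, ∀ p : Fin n, (ρ (g x) p : ℕ) = lk w (nth gens x) p

theorem ev_wd (h : Let w ρ g gens N) : ∀ {ws : List ℕ}, (∀ x ∈ ws, x < N) → ∀ p : Fin n,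
    (ρ (wd g ws) p : ℕ) = evw w gens ws p
  | [], _, p => by rw [wd_nil, map_one]; rfl
  | x :: ws, hw, p => by
    rw [wd_cons, map_mul, Perm.mul_apply, h x (hw x List.mem_cons_self), evw_cons,
      ev_wd h (fun y hy => hw y (List.mem_cons_of_mem _ hy))]

/-- power of a word at a point -/
noncomputable def evn (w : ℕ) (gens ws : List ℕ) (k p : ℕ) : ℕ :=
  Nat.rec p (fun _ ih => force ih fun q => evw w gens ws q) k

theorem evn_eq (h : Let w ρ g gens N) {ws : List ℕ} (hw : ∀ x ∈ ws, x < N) (k : ℕ) (p : Fin n) :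
    (ρ (wd g ws ^ k) p : ℕ) = evn w gens ws k p := by
  induction k with
  | zero => rw [pow_zero, map_one]; rfl
  | succ k ih =>
    rw [pow_succ', map_mul, Perm.mul_apply, ev_wd h hw, ih]
    exact (force_eq (evn w gens ws k p) fun q => evw w gens ws q).symm

/-- the `k`-th power of the word is `1` -/
noncomputable def chkPow (n w : ℕ) (gens : List ℕ) (N : ℕ) (ws : List ℕ) (k : ℕ) : Bool :=
  band (chkL N ws) (allN (fun p => Nat.beq (evn w gens ws k p) p) n)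

theorem pow_of_chk (hρ : Function.Injective ρ) (h : Let w ρ g gens N) {ws : List ℕ} {k : ℕ}
    (hc : chkPow n w gens N ws k = true) : wd g ws ^ k = 1 := by
  obtain ⟨h1, h2⟩ := band_true hc
  apply hρ
  rw [map_one]
  ext p
  rw [evn_eq h (chkL_iff _ _ h1)]
  exact Nat.eq_of_beq_eq_true ((allN_iff _ _).1 h2 p p.2)

/-- the `k`-th power of the table is `1` -/
noncomputable def chkPowT (n w P k : ℕ) : Bool := allN (fun p => Nat.beq (it w P k p) p) n

theorem pow_of_chkT (hρ : Function.Injective ρ) {r : G} {P : ℕ} (hr : ∀ p : Fin n, (ρ r p : ℕ) = lk w P p) {k : ℕ}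
    (hc : chkPowT n w P k = true) : r ^ k = 1 := by
  apply hρ
  rw [map_one, map_pow]
  ext p
  rw [← it_eq hr]
  exact Nat.eq_of_beq_eq_true ((allN_iff _ _).1 hc p p.2)

/-- an element normalising the image gives an automorphism -/
theorem exists_aut (hρ : Function.Injective ρ) {A : Subgroup (Perm (Fin n))}
    (hA : ∀ a ∈ A, ∀ x ∈ ρ.range, a * x * a⁻¹ ∈ ρ.range) {a : Perm (Fin n)} (ha : a ∈ A) :
    ∃ θ : MulAut G, ∀ x : G, ρ (θ x) = a * ρ x * a⁻¹ := by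
  have h1 : ∀ b ∈ A, ∀ x : G, ∃ y : G, ρ y = b * ρ x * b⁻¹ := fun b hb x => hA b hb _ ⟨x, rfl⟩
  choose f hf using h1 a ha
  choose f' hf' using h1 a⁻¹ (A.inv_mem ha)
  refine ⟨{ toFun := f, invFun := f', left_inv := fun x => ?_, right_inv := fun x => ?_, map_mul' := fun x y => ?_ },
    hf⟩
  · apply hρ; rw [hf', hf]; group
  · apply hρ; rw [hf, hf']; group
  · apply hρ; rw [hf, map_mul, map_mul, hf, hf]; group

/-- the cover by tables gives the cover by words -/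
theorem cov_of_tab (hρ : Function.Injective ρ) {A : Subgroup (Perm (Fin n))}
    (hA : ∀ a ∈ A, ∀ x ∈ ρ.range, a * x * a⁻¹ ∈ ρ.range) {W : List WD}
    (h : ∀ x : G, ∃ d ∈ W, ∃ b ∈ A, ρ x = b * ρ (d.r g) * b⁻¹) : Cov W g := by
  intro x
  obtain ⟨d, hd, b, hb, h1⟩ := h x
  obtain ⟨θ, hθ⟩ := exists_aut hρ hA hb
  exact ⟨d, hd, θ, hρ (by rw [h1, hθ])⟩

end

end Cfsg.Agent.H934.Ore
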